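import Cfsg.Agent.Lib.TICent.Structure
import Cfsg.Agent.Lib.Zass.Struct
import Cfsg.Agent.Lib.PSLTwo.Tools
import Cfsg.Agent.S0338
import Cfsg.Agent.S0346
import Cfsg.Agent.S1147
import Cfsg.Agent.S1230

/-!
The classification of groups with TI element centralisers.
-/

set_option autoImplicit false

open Subgroup MulAction

namespace Cfsg.Agent.Lib.TICent

open Cfsg.Agent.Lib.Involution Cfsg.Agent.Lib.CNGroup

universe u

namespace Fr

variable {G : Type u} [Group G] [Finite G] {T : Sylow 2 G} {z : G} (h : Fr T z)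
include h

local notation "H" => centralizer (Singleton.singleton z : Set G)
local notation "M" => normalizer ((T : Subgroup G) : Set G)
local notation "Ω" => G ⧸ normalizer ((T : Subgroup G) : Set G)
local notation "o" => (QuotientGroup.mk (1 : G) : G ⧸ normalizer ((T : Subgroup G) : Set G))

lemma stab_o : stabilizer G o = M := by
  ext g
  rw [mem_stabilizer_iff, h.smul_eq_iff]
  simp

lemma stab_pair (u : G) :
    stabilizer G o ⊓ stabilizer G (QuotientGroup.mk u : Ω) = Dsub T u := by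
  ext g
  rw [mem_inf, mem_inf, h.stab_o, mem_stabilizer_iff, h.smul_eq_iff, mem_map_conj]

lemma hfix_H {a : G} (ha : a ∈ H) : a • o = o := by
  rw [h.smul_eq_iff]; simpa using h.H_le_M ha

lemma kernel {u : G} (huM : u ∉ M) :
    Zass.IsKernel H o (QuotientGroup.mk u : Ω) := by
  have hne : o ≠ (QuotientGroup.mk u : Ω) := fun he => huM (by simpa using QuotientGroup.eq.mp he)
  refine ⟨hne, fun a ha => mem_stabilizer_iff.mpr (h.hfix_H ha), ?_, fun y hy => h.regular _ y hne.symm hy⟩
  intro g hg a ha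
  rw [h.stab_o] at hg
  exact h.conj_H hg ha

lemma card_omega {u : G} (huM : u ∉ M) : Nat.card Ω = Nat.card H + 1 := by
  classical
  set p : Ω := QuotientGroup.mk u with hp
  have hpo : p ≠ o := fun he => huM (by simpa using QuotientGroup.eq.mp he.symm)
  haveI := Fintype.ofFinite Ω
  have hb : Function.Bijective (fun a : H => (⟨(a : G) • p, fun he =>
      hpo (MulAction.injective (a : G) (he.trans (h.hfix_H a.2).symm))⟩ : {x : Ω // x ≠ o})) := by
    constructor
    · intro a b hab
      obtain ⟨c, -, huniq⟩ := h.regular p ((a : G) • p) hpo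
        (fun he => hpo (MulAction.injective (a : G) (he.trans (h.hfix_H a.2).symm)))
      exact (huniq a rfl).trans (huniq b (congrArg Subtype.val hab).symm).symm
    · rintro ⟨x, hx⟩
      obtain ⟨a, ha, -⟩ := h.regular p x hpo hx
      exact ⟨a, Subtype.ext ha⟩
  have hc := Nat.card_eq_of_bijective _ hb
  rw [Nat.card_eq_fintype_card (α := {x : Ω // x ≠ o}), Fintype.card_subtype_compl,
    Fintype.card_subtype_eq] at hc
  have := Fintype.card_pos_iff.mpr ⟨o⟩
  rw [Nat.card_eq_fintype_card]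
  omega

lemma two_dvd_H : 2 ∣ Nat.card H := h.ho ▸ (H).orderOf_dvd_natCard h.zH

lemma norm2 {u : G} (huM : u ∉ M) (a b : Ω) (hab : a ≠ b) :
    ∃ g : G, g • a = o ∧ g • b = QuotientGroup.mk u := by
  obtain ⟨v, rfl⟩ := QuotientGroup.mk_surjective a
  have h1 : v⁻¹ • (QuotientGroup.mk v : Ω) = o := by
    rw [MulAction.Quotient.smul_mk, smul_eq_mul, inv_mul_cancel]
  have hne : v⁻¹ • b ≠ o := fun he => hab (by
    rw [← he] at h1; exact MulAction.injective v⁻¹ h1)
  obtain ⟨⟨a, ha⟩, hae, -⟩ := h.regular _ (QuotientGroup.mk u : Ω) hne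
    fun he => huM (by simpa using QuotientGroup.eq.mp he.symm)
  exact ⟨a * v⁻¹, by rw [mul_smul, h1, h.hfix_H ha], by rw [mul_smul]; exact hae⟩

lemma fix_two {u : G} (hu : orderOf u = 2) (huM : u ∉ M) {g : G} (g1 : g • o = o)
    (g2 : g • (QuotientGroup.mk u : Ω) = QuotientGroup.mk u) {x : Ω} (hx1 : x ≠ o)
    (hx2 : x ≠ QuotientGroup.mk u) (g3 : g • x = x) : g = 1 := by
  have hgM : g ∈ M := by simpa using h.smul_eq_iff.mp g1
  have hgD : g ∈ Dsub T u := ⟨hgM, mem_map_conj.mpr (h.smul_eq_iff.mp g2)⟩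
  obtain ⟨⟨t, ht⟩, hte, huniq⟩ := h.regular _ x (fun he => huM (by simpa using QuotientGroup.eq.mp he.symm)) hx1
  have h1 : g * t * g⁻¹ = t := by
    refine congrArg Subtype.val (huniq ⟨g * t * g⁻¹, h.conj_H hgM ht⟩ ?_)
    show (g * t * g⁻¹) • (QuotientGroup.mk u : Ω) = x
    rw [mul_smul, mul_smul, inv_smul_eq_iff.mpr g2.symm]
    exact (congrArg (g • ·) hte).trans g3
  have ht1 : t ≠ 1 := fun he => hx2 (by rw [← hte]; simp [he])
  exact h.eq_one_of_commute hu huM hgD ht ht1 (mul_inv_eq_iff_eq_mul.mp h1)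

lemma zass : Cfsg.IsZassenhausGroup G Ω := by
  classical
  obtain ⟨u, hu, huM⟩ := se_exists_outside h.se
  set p : Ω := QuotientGroup.mk u with hp
  have hpo : p ≠ o := fun he => huM (by simpa using QuotientGroup.eq.mp he.symm)
  have h3 : ∀ g : G, ∀ a b c : Ω, a ≠ b → b ≠ c → a ≠ c → g • a = a → g • b = b → g • c = c → g = 1 := by
    intro g a b c hab hbc hac ga gb gc
    obtain ⟨k, hka, hkb⟩ := h.norm2 huM a b hab
    have e : ∀ {x : Ω}, g • x = x → (k * g * k⁻¹) • (k • x) = k • x := fun {x} hx => by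
      rw [mul_smul, mul_smul, inv_smul_smul, hx]
    have := h.fix_two (g := k * g * k⁻¹) hu huM (by rw [← hka]; exact e ga) (by rw [← hkb]; exact e gb)
      (x := k • c) (fun he => hac (MulAction.injective k (hka.trans he.symm)))
      (fun he => hbc (MulAction.injective k (hkb.trans he.symm))) (e gc)
    simpa using this
  have hcardH : 2 ≤ Nat.card H := Nat.le_of_dvd Nat.card_pos h.two_dvd_H
  have hex3 : ∀ a b : Ω, ∃ c, c ≠ a ∧ c ≠ b := by
    intro a b
    haveI := Fintype.ofFinite Ω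
    have : 2 < Fintype.card Ω := by
      rw [← Nat.card_eq_fintype_card, h.card_omega huM]; omega
    obtain ⟨c, hc⟩ : ∃ c, c ∉ ({a, b} : Finset Ω) := by
      by_contra hall
      push Not at hall
      have h1 := Finset.card_le_card (fun c (_ : c ∈ (Finset.univ : Finset Ω)) => hall c)
      rw [Finset.card_univ] at h1
      have h2 : ({a, b} : Finset Ω).card ≤ 2 := Finset.card_le_two
      omega
    simp only [Finset.mem_insert, Finset.mem_singleton, not_or] at hc
    exact ⟨c, hc⟩
  have htr : MulAction.IsMultiplyPretransitive G Ω 2 := by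
    rw [MulAction.is_two_pretransitive_iff]
    intro a b c d hab hcd
    obtain ⟨g, hga, hgb⟩ := h.norm2 huM a b hab
    obtain ⟨k, hkc, hkd⟩ := h.norm2 huM c d hcd
    exact ⟨k⁻¹ * g, by rw [mul_smul, hga, inv_smul_eq_iff, hkc],
      by rw [mul_smul, hgb, inv_smul_eq_iff, hkd]⟩
  refine ⟨⟨fun {g g'} hg => ?_⟩, htr, h3, ?_, ?_⟩
  · obtain ⟨c, hc1, hc2⟩ := hex3 o p
    refine inv_mul_eq_one.mp (h3 (g⁻¹ * g') o p c hpo.symm hc2.symm hc1.symm ?_ ?_ ?_) <;>
      rw [mul_smul, ← hg, inv_smul_smul]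
  · have h2 := h.two_le_inv
    have : Nontrivial (Dsub T u) :=
      Finite.one_lt_card_iff_nontrivial.mp (by rw [(h.inverts hu huM).2]; omega)
    obtain ⟨⟨d, hd⟩, hd1⟩ := exists_ne (1 : Dsub T u)
    rw [← h.stab_pair u] at hd
    exact ⟨d, fun e => hd1 (Subtype.ext e), o, p, hpo.symm, hd.1, hd.2⟩
  · intro N hN hNtr
    by_contra hall
    push Not at hall
    apply h.ns
    have hcardN : Nat.card N = Nat.card Ω := by
      haveI := hNtr
      have h1 := (stabilizer N o).card_mul_index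
      rw [index_stabilizer, show MulAction.orbit N o = Set.univ from Set.eq_univ_of_forall fun x => hNtr.exists_smul_eq o x,
        Set.ncard_univ, show stabilizer N o = ⊥ from hall o, card_bot, one_mul] at h1
      exact h1.symm
    have hodd : Odd (Nat.card N) := by
      rw [hcardN, h.card_omega huM]
      exact Even.add_one (even_iff_two_dvd.mpr h.two_dvd_H)
    haveI := odd_solvable h.ti hodd
    haveI : Group.IsSolvable M := by
      haveI : ((H).subgroupOf M).Normal :=
        ⟨fun a ha g => mem_subgroupOf.mpr (h.conj_H g.2 (mem_subgroupOf.mp ha))⟩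
      haveI := h.hnil
      haveI : Group.IsNilpotent ((H).subgroupOf M) :=
        (Group.isNilpotent_congr (subgroupOfEquivOfLe h.H_le_M)).mpr inferInstance
      haveI : Group.IsSolvable ((H).subgroupOf M) := inferInstance
      have hoddD : Odd (Nat.card (Dsub T u)) := h.se.2.2 u huM
      haveI := odd_solvable h.ti hoddD
      have hcp := (Cfsg.Agent.Lib.Coprime.isCompl_card_iff h.cop).mpr (h.complement_card hu huM)
      have hsur : Function.Surjective ((QuotientGroup.mk' ((H).subgroupOf M)).comp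
          (Subgroup.inclusion (inf_le_left : Dsub T u ≤ M))) := fun q => by
        obtain ⟨m, rfl⟩ := QuotientGroup.mk_surjective q
        have hm : m ∈ (Dsub T u).subgroupOf M ⊔ (H).subgroupOf M := by
          rw [sup_comm, hcp.sup_eq_top]; exact mem_top _
        rw [← SetLike.mem_coe, mul_normal] at hm
        obtain ⟨d, hd, a, ha, rfl⟩ := hm
        refine ⟨⟨(d : G), mem_subgroupOf.mp hd⟩, ?_⟩
        show QuotientGroup.mk d = QuotientGroup.mk (d * a)
        rw [QuotientGroup.eq, ← mul_assoc, inv_mul_cancel, one_mul]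
        exact ha
      haveI : Group.IsSolvable (M ⧸ (H).subgroupOf M) := Group.isSolvable_of_surjective hsur
      exact Group.isSolvable_of_ker_le_range ((H).subgroupOf M).subtype (QuotientGroup.mk' _)
        (le_of_eq ((QuotientGroup.ker_mk' _).trans (range_subtype _).symm))
    haveI := hN
    have hsur : Function.Surjective ((QuotientGroup.mk' N).comp (M).subtype) := fun q => by
      obtain ⟨g, rfl⟩ := QuotientGroup.mk_surjective q
      obtain ⟨⟨n, hn⟩, hne⟩ := hNtr.exists_smul_eq o (g • o)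
      have hm : n⁻¹ * g ∈ M := by
        rw [← h.stab_o, mem_stabilizer_iff, mul_smul, ← hne]
        exact inv_smul_smul n o
      refine ⟨⟨n⁻¹ * g, hm⟩, ?_⟩
      show QuotientGroup.mk (n⁻¹ * g) = QuotientGroup.mk g
      rw [QuotientGroup.eq, mul_inv_rev, inv_inv]
      exact hN.conj_mem' n hn g
    haveI : Group.IsSolvable (G ⧸ N) := Group.isSolvable_of_surjective hsur
    exact Group.isSolvable_of_ker_le_range N.subtype (QuotientGroup.mk' N)
      (le_of_eq ((QuotientGroup.ker_mk' _).trans (range_subtype _).symm))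

lemma simple : IsSimpleGroup G := by
  classical
  haveI := Fintype.ofFinite Ω
  obtain ⟨u, -, huM⟩ := se_exists_outside h.se
  refine S0338.result h.zass ?_
  rw [← Nat.card_eq_fintype_card, h.card_omega huM]
  exact Even.add_one (even_iff_two_dvd.mpr h.two_dvd_H)

lemma H_eq_T : H = (T : Subgroup G) := by
  classical
  haveI := Fintype.ofFinite Ω
  haveI : Fact (Nat.Prime 2) := ⟨Nat.prime_two⟩
  haveI := h.simple
  obtain ⟨u, -, huM⟩ := se_exists_outside h.se
  have hpp := S0346.result h.zass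
  rw [← Nat.card_eq_fintype_card, h.card_omega huM, Nat.add_sub_cancel] at hpp
  obtain ⟨p, k, hp, hk, hpk⟩ := hpp
  have hp' := Nat.prime_iff.mpr hp
  have h2 := h.two_dvd_H
  rw [← hpk] at h2
  have : p = 2 := ((Nat.prime_dvd_prime_iff_eq Nat.prime_two hp').mp (Nat.prime_two.dvd_of_dvd_pow h2)).symm
  subst this
  exact T.is_maximal' (IsPGroup.of_card hpk.symm) h.hTH

lemma T_pGroup : IsPGroup 2 H := h.H_eq_T ▸ T.isPGroup'

lemma sq_eq_one_of_invM {a : G} (haM : a ∈ M) (ha : a * a = 1) : a ∈ H ∧ ∀ b ∈ H, Commute a b := by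
  by_cases ha1 : a = 1
  · subst ha1; exact ⟨one_mem _, fun b _ => Commute.one_left b⟩
  have hc := h.inv_cent (orderOf_two_of ha ha1) haM
  refine ⟨?_, fun b hb => ?_⟩
  · rw [← hc]; exact mem_centralizer_singleton_iff.mpr rfl
  · rw [← hc] at hb
    exact (mem_centralizer_singleton_iff.mp hb).symm

lemma H_comm : ∀ a ∈ H, ∀ b ∈ H, a * b = b * a := by
  classical
  haveI : Fact (Nat.Prime 2) := ⟨Nat.prime_two⟩
  haveI := h.simple
  obtain ⟨u, hu, huM⟩ := se_exists_outside h.se
  by_contra hna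
  push Not at hna
  obtain ⟨x, hxH, y, hyH, hxy⟩ := hna
  have hK := h.kernel huM
  obtain ⟨n, -, -, hΩ, -, hD, -⟩ := S1147.result h.zass hK.ne H hK.le hK.conj
    (fun c d hc hd => h.regular c d hc hd) h.T_pGroup ⟨x, hxH, y, hyH, hxy⟩
  rw [h.card_omega huM] at hΩ
  rw [h.stab_pair u, (h.inverts hu huM).2] at hD
  have hH : Nat.card H = 2 ^ n * 2 ^ n := by rw [← pow_add, ← two_mul]; omega
  -- the subgroup of involutions
  let Z : Subgroup G :=
    { carrier := {a | a ∈ M ∧ a * a = 1}
      one_mem' := ⟨one_mem _, mul_one 1⟩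
      mul_mem' := fun {a b} ha hb => ⟨mul_mem ha.1 hb.1, by
        have hc : Commute a b := (h.sq_eq_one_of_invM ha.1 ha.2).2 b (h.sq_eq_one_of_invM hb.1 hb.2).1
        rw [hc.symm.mul_mul_mul_comm, ha.2, hb.2, mul_one]⟩
      inv_mem' := fun {a} ha => ⟨inv_mem ha.1, by rw [← mul_inv_rev, ha.2, inv_one]⟩ }
  have hZH : Z ≤ H := fun a ha => (h.sq_eq_one_of_invM ha.1 ha.2).1
  have hZn : ∀ g ∈ M, ∀ a ∈ Z, g * a * g⁻¹ ∈ Z := fun g hg a ha =>
    ⟨mul_mem (mul_mem hg ha.1) (inv_mem hg), by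
      rw [show g * a * g⁻¹ * (g * a * g⁻¹) = g * (a * a) * g⁻¹ by group, ha.2, mul_one, mul_inv_cancel]⟩
  have hcardZ : Nat.card Z = 2 ^ n := by
    let f : Option (InvM T) → Z := fun t => t.elim 1 fun t => ⟨t.1, t.2.2, mul_self t.2.1⟩
    have hf : Function.Bijective f := by
      constructor
      · rintro (_ | a) (_ | b) hab
        · rfl
        · exact absurd (congrArg Subtype.val hab).symm (Involution.ne_one b.2.1)
        · exact absurd (congrArg Subtype.val hab) (Involution.ne_one a.2.1)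
        · exact congrArg some (Subtype.ext (congrArg (fun c : Z => (c : G)) hab))
      · rintro ⟨a, haM, ha⟩
        by_cases ha1 : a = 1
        · exact ⟨none, Subtype.ext ha1.symm⟩
        · exact ⟨some ⟨a, orderOf_two_of ha ha1, haM⟩, rfl⟩
    rw [← Nat.card_eq_of_bijective f hf, Finite.card_option, hD]
    have : 0 < 2 ^ n := by positivity
    omega
  have hxZ : x ∉ Z := fun hx => hxy ((h.sq_eq_one_of_invM hx.1 hx.2).2 y hyH)
  -- the cosets of `Z` in `H`
  set Z' := Z.subgroupOf H with hZ'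
  have hcardQ : Nat.card (H ⧸ Z') = 2 ^ n := by
    have h1 := Z'.card_mul_index
    rw [Nat.card_congr (subgroupOfEquivOfLe hZH).toEquiv, hcardZ, hH, index_eq_card] at h1
    exact Nat.eq_of_mul_eq_mul_left (by positivity) h1
  let φ : Dsub T u → H := fun d => ⟨(d : G) * x * (d : G)⁻¹, h.conj_H d.2.1 hxH⟩
  let g : Option (Dsub T u) → H ⧸ Z' := fun t => t.elim (QuotientGroup.mk 1) fun d => QuotientGroup.mk (φ d)
  have hxd : ∀ d : Dsub T u, φ d ∉ Z' := fun d hd => by
    rw [hZ', mem_subgroupOf] at hd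
    have h1 := hZn _ (inv_mem d.2.1) _ hd
    apply hxZ
    convert h1 using 1
    show x = (d : G)⁻¹ * ((d : G) * x * (d : G)⁻¹) * (d : G)⁻¹⁻¹
    group
  have hginj : Function.Injective g := by
    rintro (_ | a) (_ | b) hab
    · rfl
    · exact absurd (by simpa using QuotientGroup.eq.mp hab) (hxd b)
    · exact absurd (by simpa using QuotientGroup.eq.mp hab) (hxd a)
    · refine congrArg some ?_
      have h1 := QuotientGroup.eq.mp hab
      rw [hZ', mem_subgroupOf] at h1
      set d : G := (a : G)⁻¹ * b with hd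
      have hdD : d ∈ Dsub T u := mul_mem (inv_mem a.2) b.2
      by_contra hne
      have hd1 : d ≠ 1 := fun e => hne (Subtype.ext (inv_mul_eq_one.mp e))
      set w : G := x⁻¹ * (d * x * d⁻¹) with hw
      have hwZ : w ∈ Z := by
        have h2 := hZn _ (inv_mem a.2.1) _ h1
        convert h2 using 1
        simp only [φ, Subgroup.coe_mul, Subgroup.coe_inv, hw, hd]
        group
      let ψ : Z → Z := fun c => ⟨d * c * d⁻¹ * (c : G)⁻¹, mul_mem (hZn d hdD.1 c c.2) (inv_mem c.2)⟩
      have hψ : Function.Injective ψ := by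
        intro c c' hcc
        have h2 : d * c * d⁻¹ * (c : G)⁻¹ = d * c' * d⁻¹ * (c' : G)⁻¹ := congrArg Subtype.val hcc
        have hcomm : d * ((c' : G)⁻¹ * c) = ((c' : G)⁻¹ * c) * d := by
          calc d * ((c' : G)⁻¹ * c) = (d * c' * d⁻¹)⁻¹ * (d * c * d⁻¹ * (c : G)⁻¹) * c * d := by group
            _ = (d * c' * d⁻¹)⁻¹ * (d * c' * d⁻¹ * (c' : G)⁻¹) * c * d := by rw [h2]
            _ = ((c' : G)⁻¹ * c) * d := by group
        by_contra hne'
        exact hd1 (h.eq_one_of_commute hu huM hdD (hZH (mul_mem (inv_mem c'.2) c.2))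
          (fun e => hne' (Subtype.ext (inv_mul_eq_one.mp e).symm)) hcomm)
      obtain ⟨c, hc⟩ := (Finite.injective_iff_surjective.mp hψ) ⟨w, hwZ⟩
      have hc' : d * c * d⁻¹ * (c : G)⁻¹ = w := congrArg Subtype.val hc
      have hcz := (h.sq_eq_one_of_invM (hZn d hdD.1 c c.2).1 (hZn d hdD.1 c c.2).2).2
      have hfix : d * (x * (c : G)⁻¹) = (x * (c : G)⁻¹) * d := by
        calc d * (x * (c : G)⁻¹) = x * (x⁻¹ * (d * x * d⁻¹)) * (d * c * d⁻¹)⁻¹ * d := by group
          _ = x * (d * c * d⁻¹ * (c : G)⁻¹) * (d * c * d⁻¹)⁻¹ * d := by rw [hc']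
          _ = x * ((c : G)⁻¹ * (d * c * d⁻¹)) * (d * c * d⁻¹)⁻¹ * d := by
            rw [(hcz _ (hZH (inv_mem c.2))).eq]
          _ = x * (c : G)⁻¹ * d := by group
      refine hd1 (h.eq_one_of_commute hu huM hdD (mul_mem hxH (hZH (inv_mem c.2))) ?_ hfix)
      intro e
      exact hxZ (mul_inv_eq_one.mp e ▸ c.2)
  have hgsur : Function.Surjective g := by
    refine (hginj.bijective_of_nat_card_le ?_).2
    rw [hcardQ, Finite.card_option, (h.inverts hu huM).2, hD]
    omega
  apply hxy
  obtain ⟨t, ht⟩ := hgsur (QuotientGroup.mk ⟨y, hyH⟩)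
  have hCx : ∀ e : H, (∃ t, g t = QuotientGroup.mk e) → (e : G) ∈ centralizer ({x} : Set G) := by
    rintro e ⟨t, ht⟩
    have hZc : ∀ a ∈ Z, a ∈ centralizer ({x} : Set G) := fun a ha =>
      mem_centralizer_singleton_iff.mpr ((h.sq_eq_one_of_invM ha.1 ha.2).2 x hxH).eq
    have hxT : x ∈ (T : Subgroup G) := h.H_eq_T ▸ hxH
    rcases t with _ | d
    · have h1 := QuotientGroup.eq.mp ht
      rw [hZ', mem_subgroupOf] at h1
      exact hZc _ (by simpa using h1)
    · have h1 := QuotientGroup.eq.mp ht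
      rw [hZ', mem_subgroupOf] at h1
      simp only [φ, Subgroup.coe_mul, Subgroup.coe_inv] at h1
      have h2 : (d : G) * x * (d : G)⁻¹ ∈ centralizer ({x} : Set G) :=
        h.cent_stable hxT d.2.1 (mem_centralizer_singleton_iff.mpr rfl)
      have h3 := mul_mem h2 (hZc _ h1)
      rwa [mul_inv_cancel_left] at h3
  exact (mem_centralizer_singleton_iff.mp (hCx ⟨y, hyH⟩ ⟨t, ht⟩)).symm

theorem psl : ∃ n : ℕ, 2 ≤ n ∧
    Nonempty (G ≃* Matrix.ProjectiveSpecialLinearGroup (Fin 2) (GaloisField 2 n)) := by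
  classical
  haveI : Fact (Nat.Prime 2) := ⟨Nat.prime_two⟩
  haveI := Fintype.ofFinite Ω
  obtain ⟨u, hu, huM⟩ := se_exists_outside h.se
  have hK := h.kernel huM
  have hcomm : IsMulCommutative H := ⟨⟨fun a b => Subtype.ext (h.H_comm a a.2 b b.2)⟩⟩
  have hle := (Zass.abelian_kernel_struct h.zass hK hcomm).1
  have hΩ : Fintype.card Ω = Nat.card H + 1 := by rw [← Nat.card_eq_fintype_card]; exact h.card_omega huM
  obtain ⟨-, p, f, hp, hexp, -⟩ := S0738.result h.zass hK.ne (by omega) H hK.le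
    hK.normal (fun y w hy hw => h.regular y w hy hw)
  have hp2 : p = 2 := by
    have := orderOf_dvd_of_pow_eq_one (hexp z h.zH)
    rw [h.ho] at this
    exact ((Nat.prime_dvd_prime_iff_eq Nat.prime_two hp).mp this).symm
  subst hp2
  have hHT := h.H_eq_T
  have hnc : ¬ IsCyclic (T : Subgroup G) := by
    intro hc
    rw [← hHT] at hc
    have h2 := h.two_le_inv
    have hsub : Subsingleton (InvM T) := by
      refine ⟨fun a b => Subtype.ext ?_⟩
      have ha := (h.sq_eq_one_of_invM a.2.2 (mul_self a.2.1)).1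
      have hb := (h.sq_eq_one_of_invM b.2.2 (mul_self b.2.1)).1
      haveI := hc
      obtain ⟨e, he⟩ := hc.exists_generator
      have key : ∀ c : H, orderOf c = 2 → c = e := by
        intro c hc2
        obtain ⟨j, hj⟩ := mem_zpowers_iff.mp (he c)
        have he2 : e ^ (2 : ℤ) = 1 := by
          rw [show (2 : ℤ) = ((2 : ℕ) : ℤ) from rfl, zpow_natCast]
          exact Subtype.ext (hexp e e.2)
        rcases Int.even_or_odd j with ⟨i, rfl⟩ | ⟨i, rfl⟩
        · rw [← two_mul, zpow_mul, he2, one_zpow] at hj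
          exact absurd hj.symm (Involution.ne_one hc2)
        · rw [zpow_add, zpow_mul, he2, one_zpow, one_mul, zpow_one] at hj
          exact hj.symm
      have h1 := key ⟨a, ha⟩ (by rw [Subgroup.orderOf_mk]; exact a.2.1)
      have h2 := key ⟨b, hb⟩ (by rw [Subgroup.orderOf_mk]; exact b.2.1)
      exact congrArg (fun c : H => (c : G)) (h1.trans h2.symm)
    have := Finite.card_le_one_iff_subsingleton.mpr hsub
    omega
  obtain ⟨F, hF, hFf, hcard, ⟨e⟩⟩ := S1230.result T hnc h.nn fun t ht => by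
    obtain ⟨g, rfl⟩ := isConj_iff.mp (se_all_conj h.se z t h.ho ht)
    have key : ∀ c ∈ centralizer ({g * z * g⁻¹} : Set G), g⁻¹ * c * g ∈ H := by
      intro c hc
      rw [mem_centralizer_singleton_iff] at hc ⊢
      calc g⁻¹ * c * g * z = g⁻¹ * (c * (g * z * g⁻¹)) * g := by group
        _ = z * (g⁻¹ * c * g) := by rw [hc]; group
    refine ⟨⟨⟨fun a b => Subtype.ext ?_⟩⟩, fun c hc => ?_⟩
    · have h1 := h.H_comm _ (key a a.2) _ (key b b.2)
      calc (a : G) * b = g * ((g⁻¹ * a * g) * (g⁻¹ * b * g)) * g⁻¹ := by group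
        _ = b * a := by rw [h1]; group
    · calc c ^ 2 = g * (g⁻¹ * c * g) ^ 2 * g⁻¹ := by rw [pow_two, pow_two]; group
        _ = 1 := by rw [hexp _ (key c hc)]; group
  obtain ⟨k, hk⟩ := T.isPGroup'.exists_card_eq
  have hk2 : 2 ≤ k := by
    rcases k with _ | _ | k
    · exfalso
      haveI := (Nat.card_eq_one_iff_unique.mp (show Nat.card (T : Subgroup G) = 1 by simpa using hk)).1
      exact hnc inferInstance
    · exact absurd (isCyclic_of_prime_card (p := 2) (by simpa using hk)) hnc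
    · omega
  haveI : Fintype (GaloisField 2 k) := Fintype.ofFinite _
  have hc2 : Fintype.card F = Fintype.card (GaloisField 2 k) := by
    rw [hcard, hk, ← Nat.card_eq_fintype_card, GaloisField.card 2 k (by omega)]
  exact ⟨k, hk2, ⟨e.trans (Cfsg.Agent.Lib.PSLTwo.pslCongr (FiniteField.ringEquivOfCardEq hc2))⟩⟩

end Fr

end Cfsg.Agent.Lib.TICent
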