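import Cfsg.Agent.Lib.TICent.Basic
import Cfsg.Agent.Lib.Involution.SECounting
import Cfsg.Agent.Lib.Coprime.Conjugacy
import Cfsg.Agent.S0183
import Cfsg.Agent.S1181
import Cfsg.Agent.S1188

/-!
Non-soluble groups with TI element centralisers: the Sylow 2-normaliser is strongly embedded, the
centraliser of a central involution is a regular kernel on its cosets.
-/

set_option autoImplicit false

open Subgroup

namespace Cfsg.Agent.Lib.TICent

open Cfsg.Agent.Lib.Involution Cfsg.Agent.Lib.CNGroup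

universe u

variable {G : Type u} [Group G]

/-- The setting: a non-soluble group with TI centralisers, a central involution of a Sylow 2-subgroup. -/
structure Fr [Finite G] (T : Sylow 2 G) (z : G) : Prop where
  ti : CentTI G
  ns : ¬ Group.IsSolvable G
  zT : z ∈ (T : Subgroup G)
  ho : orderOf z = 2
  hTH : (T : Subgroup G) ≤ centralizer ({z} : Set G)

theorem odd_solvable [Finite G] (h : CentTI G) {K : Subgroup G} (hK : Odd (Nat.card K)) :
    Group.IsSolvable K :=
  S0183.result hK (cn_subgroup h.isCN K)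

theorem two_dvd [Finite G] (h : CentTI G) (hns : ¬ Group.IsSolvable G) : 2 ∣ Nat.card G := by
  by_contra hd
  exact hns (S0183.result (Nat.odd_iff.mpr (by omega)) h.isCN)

theorem exists_frame [Finite G] (h : CentTI G) (hns : ¬ Group.IsSolvable G) :
    ∃ (T : Sylow 2 G) (z : G), Fr T z := by
  haveI : Fact (Nat.Prime 2) := ⟨Nat.prime_two⟩
  obtain ⟨T⟩ := (inferInstance : Nonempty (Sylow 2 G))
  have hd : 2 ∣ Nat.card (T : Subgroup G) := T.dvd_card_of_dvd_card (two_dvd h hns)
  obtain ⟨z, hzT, hzo, hzc⟩ := exists_central_prime (H := (T : Subgroup G)) T.isPGroup'.isNilpotent hd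
  exact ⟨T, z, h, hns, hzT, hzo, fun x hx => mem_centralizer_singleton_iff.mpr (hzc x hx).eq.symm⟩

namespace Fr

variable [Finite G] {T : Sylow 2 G} {z : G} (h : Fr T z)
include h

local notation "H" => centralizer (Singleton.singleton z : Set G)
local notation "M" => normalizer ((T : Subgroup G) : Set G)

lemma z1 : z ≠ 1 := Involution.ne_one h.ho

lemma zH : z ∈ H := mem_centralizer_singleton_iff.mpr rfl

lemma hnil : Group.IsNilpotent H := h.ti.isCN z h.z1

lemma nn : ¬ (T : Subgroup G).Normal := by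
  intro hn
  apply h.ns
  haveI : Fact (Nat.Prime 2) := ⟨Nat.prime_two⟩
  haveI := hn
  obtain ⟨K, hK⟩ := exists_right_complement'_of_coprime T.card_coprime_index
  have hKo : Odd (Nat.card K) := by
    have h2 : Nat.card K = (T : Subgroup G).index := hK.symm.index_eq_card.symm
    rw [h2, Nat.odd_iff]
    have := T.not_dvd_index
    omega
  haveI := odd_solvable h.ti hKo
  haveI : Group.IsNilpotent (T : Subgroup G) := T.isPGroup'.isNilpotent
  haveI : Group.IsSolvable (T : Subgroup G) := inferInstance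
  haveI : Group.IsSolvable (G ⧸ (T : Subgroup G)) :=
    Group.isSolvable_of_surjective (f := hK.symm.QuotientMulEquiv.symm.toMonoidHom)
      hK.symm.QuotientMulEquiv.symm.surjective
  exact Group.isSolvable_of_ker_le_range (T : Subgroup G).subtype (QuotientGroup.mk' (T : Subgroup G))
    (le_of_eq ((QuotientGroup.ker_mk' _).trans (range_subtype _).symm))

lemma T_le_M : (T : Subgroup G) ≤ M := (T : Subgroup G).le_normalizer

lemma mem_T_of_pGroup {x : G} (hx : IsPGroup 2 (zpowers x)) (hxM : x ∈ M) : x ∈ (T : Subgroup G) := by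
  have := T.is_maximal' (IsPGroup.to_sup_of_normal_left' T.isPGroup' hx (zpowers_le.mpr hxM)) le_sup_left
  rw [← this]
  exact mem_sup_right (mem_zpowers x)

lemma mem_T_of_involution {t : G} (ht : orderOf t = 2) (htM : t ∈ M) : t ∈ (T : Subgroup G) :=
  h.mem_T_of_pGroup (IsPGroup.of_card (n := 1) (by rw [Nat.card_zpowers, ht, pow_one])) htM

lemma H_le_M : H ≤ M := by
  haveI : Fact (Nat.Prime 2) := ⟨Nat.prime_two⟩
  intro g hg
  have hn := sylow_normal h.hnil (T.subtype h.hTH)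
  refine Cfsg.Agent.Lib.GS.mem_normalizer_of_forall fun x hx => ?_
  have hm : (⟨x, h.hTH hx⟩ : H) ∈ ((T.subtype h.hTH : Sylow 2 H) : Subgroup H) := by
    rw [Sylow.coe_subtype, mem_subgroupOf]; exact hx
  have h1 := hn.conj_mem _ hm ⟨g, hg⟩
  rw [Sylow.coe_subtype, mem_subgroupOf] at h1
  simpa using h1

lemma zM : z ∈ M := h.T_le_M h.zT

lemma se : Cfsg.IsStronglyEmbedded M := by
  have hne : M ≠ ⊤ := fun ht => h.nn (normalizer_eq_top_iff.mp ht)
  have heven : Even (Nat.card M) := by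
    have hd := Subgroup.orderOf_dvd_natCard M h.zM
    rw [h.ho] at hd
    exact even_iff_two_dvd.mpr hd
  rw [se_iff_forall hne heven]
  intro s g hs h1 h2
  have hsT := h.mem_T_of_involution hs h1
  have ho : orderOf (g⁻¹ * s * g) = 2 := by simpa using (Involution.orderOf_conj g⁻¹ s).trans hs
  have htT := h.mem_T_of_involution ho h2
  by_contra hg
  have hne' : g • T ≠ T := fun he => hg (Sylow.smul_eq_iff_mem_normalizer.mp he)
  haveI : Fact (Nat.Prime 2) := ⟨Nat.prime_two⟩
  have hmem : s ∈ ((g • T : Sylow 2 G) : Subgroup G) ⊓ (T : Subgroup G) := by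
    refine ⟨?_, hsT⟩
    rw [Sylow.coe_subgroup_smul]
    exact Subgroup.mem_pointwise_smul_iff_inv_smul_mem.mpr (by simpa using htT)
  rw [S4066.result h.ti (g • T) T hne', mem_bot] at hmem
  exact Involution.ne_one hs hmem

lemma conj_in_M {a b : G} (ha : orderOf a = 2) (hb : orderOf b = 2) (haM : a ∈ M) (hbM : b ∈ M) :
    ∃ k ∈ M, k * a * k⁻¹ = b := by
  obtain ⟨g, hg⟩ := isConj_iff.mp (se_all_conj h.se a b ha hb)
  exact ⟨g, se_mem' h.se ha haM (by rw [hg]; exact hbM), hg⟩

/-- `M` normalises every centraliser of an element of `T`. -/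
lemma cent_stable {x : G} (hx : x ∈ (T : Subgroup G)) {g : G} (hg : g ∈ M) {y : G}
    (hy : y ∈ centralizer ({x} : Set G)) : g * y * g⁻¹ ∈ centralizer ({x} : Set G) := by
  have key : ∀ w ∈ (T : Subgroup G), (∀ v ∈ (T : Subgroup G), Commute w v) →
      w ∈ centralizer ({x} : Set G) := fun w _ hw =>
    mem_centralizer_singleton_iff.mpr (hw x hx).eq
  have hzc : ∀ v ∈ (T : Subgroup G), Commute z v := fun v hv =>
    (mem_centralizer_singleton_iff.mp (h.hTH hv)).symm
  have hgz : g * z * g⁻¹ ∈ (T : Subgroup G) := (Subgroup.mem_normalizer_iff.mp hg z).mp h.zT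
  refine h.ti.conj_mem h.z1 (key z h.zT hzc) (key _ hgz fun v hv => ?_) hy
  have hv' : g⁻¹ * v * g ∈ (T : Subgroup G) := by
    simpa using (Subgroup.mem_normalizer_iff.mp (inv_mem hg) v).mp hv
  have h1 := (hzc _ hv').map (MulAut.conj g).toMonoidHom
  simp only [MulEquiv.coe_toMonoidHom, MulAut.conj_apply] at h1
  rwa [show g * (g⁻¹ * v * g) * g⁻¹ = v by group] at h1

lemma conj_H {g : G} (hg : g ∈ M) {y : G} (hy : y ∈ H) : g * y * g⁻¹ ∈ H :=
  h.cent_stable h.zT hg hy

lemma inv_cent {s : G} (hs : orderOf s = 2) (hsM : s ∈ M) : centralizer ({s} : Set G) = H := by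
  obtain ⟨k, hk, rfl⟩ := h.conj_in_M h.ho hs h.zM hsM
  ext y
  simp only [mem_centralizer_singleton_iff]
  constructor
  · intro hy
    have h1 : k⁻¹ * y * k ∈ H := by
      rw [mem_centralizer_singleton_iff]
      calc k⁻¹ * y * k * z = k⁻¹ * (y * (k * z * k⁻¹)) * k := by group
        _ = z * (k⁻¹ * y * k) := by rw [hy]; group
    have h2 := h.conj_H hk h1
    rw [show k * (k⁻¹ * y * k) * k⁻¹ = y by group, mem_centralizer_singleton_iff] at h2
    exact h2
  · intro hy
    have h2 := h.conj_H (inv_mem hk) (mem_centralizer_singleton_iff.mpr hy)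
    rw [inv_inv, mem_centralizer_singleton_iff] at h2
    calc y * (k * z * k⁻¹) = k * (k⁻¹ * y * k * z) * k⁻¹ := by group
      _ = k * z * k⁻¹ * y := by rw [h2]; group

/-- `H` contains the centraliser of each of its nontrivial elements. -/
lemma cent_le {a : G} (ha : a ∈ H) (ha1 : a ≠ 1) : centralizer ({a} : Set G) ≤ H := by
  haveI : Fact (Nat.Prime 2) := ⟨Nat.prime_two⟩
  intro c hc
  have hN := h.ti.isCN a ha1
  have hzC : z ∈ centralizer ({a} : Set G) :=
    mem_centralizer_singleton_iff.mpr (mem_centralizer_singleton_iff.mp ha).symm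
  refine mem_of_decomp c Nat.prime_two (fun v hv hpv => ?_) fun v hv hpv => ?_
  · have hvC : v ∈ centralizer ({a} : Set G) := zpowers_le.2 hc hv
    set C := centralizer ({a} : Set G) with hC
    let S : Sylow 2 C := Classical.arbitrary _
    have hSn := sylow_normal hN S
    haveI := hSn
    haveI : Subsingleton (Sylow 2 C) := Sylow.unique_of_normal S hSn |>.instSubsingleton
    have hmem : ∀ w : C, IsPGroup 2 (zpowers w) → w ∈ (S : Subgroup C) := fun w hw => by
      obtain ⟨Q, hQ⟩ := hw.exists_le_sylow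
      rw [Subsingleton.elim S Q]
      exact hQ (mem_zpowers w)
    have hvp : IsPGroup 2 (zpowers (⟨v, hvC⟩ : C)) := by
      obtain ⟨k, hk⟩ := hpv
      obtain ⟨j, -, hj⟩ := (Nat.dvd_prime_pow Nat.prime_two).1 hk
      exact IsPGroup.of_card (n := j) (by rw [Nat.card_zpowers, Subgroup.orderOf_mk, hj])
    have hzp : IsPGroup 2 (zpowers (⟨z, hzC⟩ : C)) :=
      IsPGroup.of_card (n := 1) (by rw [Nat.card_zpowers, Subgroup.orderOf_mk, h.ho, pow_one])
    obtain ⟨R, hR⟩ := (S.isPGroup'.map C.subtype).exists_le_sylow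
    have hRT : R = T := by
      by_contra hne
      have h1 : z ∈ (R : Subgroup G) ⊓ (T : Subgroup G) := ⟨hR ⟨_, hmem _ hzp, rfl⟩, h.zT⟩
      rw [S4066.result h.ti R T hne, mem_bot] at h1
      exact h.z1 h1
    exact h.hTH (hRT ▸ hR ⟨_, hmem _ hvp, rfl⟩)
  · refine mem_centralizer_singleton_iff.mpr ?_
    exact (commute_of_nil hN (zpowers_le.2 hc hv) hzC (by rw [h.ho]; exact hpv)).eq

lemma isMaxNil : IsMaxNil H := by
  refine ⟨h.hnil, fun L hL hle => le_antisymm (fun l hl => ?_) hle⟩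
  have hne : Nontrivial L := ⟨⟨⟨z, hle h.zH⟩, 1, fun e => h.z1 (congrArg Subtype.val e)⟩⟩
  have hd : 2 ∣ Nat.card L := h.ho ▸ L.orderOf_dvd_natCard (hle h.zH)
  haveI : Fact (Nat.Prime 2) := ⟨Nat.prime_two⟩
  obtain ⟨w, hwL, hwo, hwc⟩ := exists_central_prime hL hd
  have hwH : w ∈ H := mem_centralizer_singleton_iff.mpr (hwc z (hle h.zH)).eq
  exact h.cent_le hwH (CNGroup.ne_one_of_orderOf Nat.prime_two hwo)
    (mem_centralizer_singleton_iff.mpr (hwc l hl).eq.symm)

lemma H_ti {g : G} (hg : g ∉ M) {a : G} (ha : a ∈ H) (hga : g⁻¹ * a * g ∈ H) : a = 1 := by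
  by_contra ha1
  refine hg (se_mem' h.se h.ho h.zM (h.H_le_M (h.cent_le ha ha1 ?_)))
  rw [mem_centralizer_singleton_iff]
  rw [mem_centralizer_singleton_iff] at hga
  calc g * z * g⁻¹ * a = g * (z * (g⁻¹ * a * g)) * g⁻¹ := by group
    _ = a * (g * z * g⁻¹) := by rw [← hga]; group

omit h in
/-- The involutions of `M`. -/
abbrev InvM (T : Sylow 2 G) : Type u :=
  {t : G // orderOf t = 2 ∧ t ∈ normalizer ((T : Subgroup G) : Set G)}

lemma card_M : Nat.card M = Nat.card H * Nat.card (InvM T) := by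
  rw [← ((H).subgroupOf M).card_mul_index, Nat.card_congr (subgroupOfEquivOfLe h.H_le_M).toEquiv,
    index_eq_card]
  congr 1
  refine Nat.card_eq_of_bijective
    (fun q => Quotient.liftOn' q (fun k => (⟨(k : G) * z * (k : G)⁻¹,
      (Involution.orderOf_conj _ _).trans h.ho,
      mul_mem (mul_mem k.2 h.zM) (inv_mem k.2)⟩ : InvM T)) ?_) ⟨?_, ?_⟩
  · intro a b hab
    rw [QuotientGroup.leftRel_apply, mem_subgroupOf, mem_centralizer_singleton_iff] at hab
    simp only [Subgroup.coe_mul, Subgroup.coe_inv] at hab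
    apply Subtype.ext
    calc (a : G) * z * (a : G)⁻¹ = (a : G) * (((a : G)⁻¹ * b) * z * ((a : G)⁻¹ * b)⁻¹) * (a : G)⁻¹ := by
          rw [hab, mul_inv_cancel_right]
      _ = (b : G) * z * (b : G)⁻¹ := by group
  · intro p q
    induction p using Quotient.inductionOn' with
    | _ a =>
    induction q using Quotient.inductionOn' with
    | _ b =>
    intro hab
    simp only [Quotient.liftOn'_mk'', Subtype.mk.injEq] at hab
    rw [Quotient.eq'', QuotientGroup.leftRel_apply, mem_subgroupOf, mem_centralizer_singleton_iff]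
    simp only [Subgroup.coe_mul, Subgroup.coe_inv]
    calc (a : G)⁻¹ * b * z = (a : G)⁻¹ * ((b : G) * z * (b : G)⁻¹) * b := by group
      _ = z * ((a : G)⁻¹ * b) := by rw [← hab]; group
  · rintro ⟨i, hio, hiM⟩
    obtain ⟨k, hk, hke⟩ := h.conj_in_M h.ho hio h.zM hiM
    exact ⟨Quotient.mk'' ⟨k, hk⟩, Subtype.ext hke⟩

/-- There are at least two involutions in `M` (Z*-theorem). -/
lemma two_le_inv : 2 ≤ Nat.card (InvM T) := by
  by_contra hlt
  haveI : Subsingleton (InvM T) := Finite.card_le_one_iff_subsingleton.mp (by omega)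
  apply h.ns
  have hiso : Cfsg.IsIsolatedInvolution z := by
    refine ⟨h.ho, fun g hg => ?_⟩
    have hm : g * z * g⁻¹ ∈ M := h.H_le_M (mem_centralizer_singleton_iff.mpr hg.eq.symm)
    exact congrArg Subtype.val (Subsingleton.elim
      (⟨g * z * g⁻¹, (Involution.orderOf_conj _ _).trans h.ho, hm⟩ : InvM T) ⟨z, h.ho, h.zM⟩)
  haveI := h.hnil
  haveI : Group.IsSolvable H := inferInstance
  have hall := S1188.result z hiso inferInstance
  haveI hOn : (Cfsg.oddCore G).Normal := oddCore_normal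
  have hOodd : Odd (Nat.card (Cfsg.oddCore G)) := odd_card_oddCore
  haveI := odd_solvable h.ti hOodd
  have hzO : z ∉ Cfsg.oddCore G := fun hm => by
    have := hOodd.of_dvd_nat ((Cfsg.oddCore G).orderOf_dvd_natCard hm)
    rw [h.ho] at this
    exact (by decide : ¬ Odd 2) this
  have hc := (S1181.result z hiso (Cfsg.oddCore G) hzO).1
  have htop : centralizer ({(QuotientGroup.mk z : G ⧸ Cfsg.oddCore G)} : Set _) = ⊤ := by
    refine top_le_iff.mp fun q _ => ?_
    obtain ⟨g, rfl⟩ := QuotientGroup.mk_surjective q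
    rw [mem_centralizer_singleton_iff, ← QuotientGroup.mk_mul, ← QuotientGroup.mk_mul, QuotientGroup.eq]
    have h1 := hOn.conj_mem _ (hall g⁻¹) z⁻¹
    rw [inv_inv, inv_inv] at h1
    convert (Cfsg.oddCore G).inv_mem h1 using 1
    group
  rw [htop] at hc
  have hsur : Function.Surjective ((QuotientGroup.mk' (Cfsg.oddCore G)).comp (H).subtype) := fun q => by
    obtain ⟨g, hg, rfl⟩ := (hc ▸ mem_top q : q ∈ (H).map (QuotientGroup.mk' (Cfsg.oddCore G)))
    exact ⟨⟨g, hg⟩, rfl⟩
  haveI : Group.IsSolvable (G ⧸ Cfsg.oddCore G) := Group.isSolvable_of_surjective hsur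
  exact Group.isSolvable_of_ker_le_range (Cfsg.oddCore G).subtype (QuotientGroup.mk' (Cfsg.oddCore G))
    (le_of_eq ((QuotientGroup.ker_mk' _).trans (range_subtype _).symm))

omit h in
/-- The stabiliser of the two cosets `M`, `uM`. -/
abbrev Dsub (T : Sylow 2 G) (u : G) : Subgroup G :=
  normalizer ((T : Subgroup G) : Set G) ⊓
    (normalizer ((T : Subgroup G) : Set G)).map (MulAut.conj u).toMonoidHom

lemma D_inf_H {u : G} (hu : orderOf u = 2) (huM : u ∉ M) {d : G} (hd : d ∈ Dsub T u) (hdH : d ∈ H) :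
    d = 1 := by
  by_contra hd1
  have hd2 : u⁻¹ * d * u ∈ M := mem_map_conj.mp hd.2
  set k := u * d * u⁻¹ with hk
  have hkM : k ∈ M := by
    rw [inv_self hu] at hd2; rw [hk, inv_self hu]; exact hd2
  have hdu : u⁻¹ * k * u = d := by rw [hk]; group
  have h1 : d * k * d⁻¹ * k⁻¹ ∈ H := by
    rw [show d * k * d⁻¹ * k⁻¹ = d * (k * d⁻¹ * k⁻¹) by group]
    exact mul_mem hdH (h.conj_H hkM (inv_mem hdH))
  have h2 : u⁻¹ * (d * k * d⁻¹ * k⁻¹) * u ∈ H := by
    have := mul_mem (h.conj_H hd2 hdH) (inv_mem hdH)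
    convert this using 1
    rw [hk]; group
  have h3 : d * k * d⁻¹ * k⁻¹ = 1 := h.H_ti huM h1 h2
  have hdk : k * d = d * k := (mul_inv_eq_iff_eq_mul.mp (mul_inv_eq_one.mp h3)).symm
  have hkH : k ∈ H := h.cent_le hdH hd1 (mem_centralizer_singleton_iff.mpr hdk)
  have : k = 1 := h.H_ti huM hkH (by rw [hdu]; exact hdH)
  rw [this] at hdu
  exact hd1 (by rw [← hdu]; group)

lemma card_D_le {u : G} (hu : orderOf u = 2) (huM : u ∉ M) :
    Nat.card (Dsub T u) ≤ Nat.card (InvM T) := by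
  have hidx : ((H).subgroupOf M).index = Nat.card (InvM T) := by
    have h1 := ((H).subgroupOf M).card_mul_index
    rw [Nat.card_congr (subgroupOfEquivOfLe h.H_le_M).toEquiv, h.card_M] at h1
    exact Nat.eq_of_mul_eq_mul_left Nat.card_pos h1
  rw [← hidx, index_eq_card]
  refine Nat.card_le_card_of_injective (fun d => QuotientGroup.mk (⟨(d : G), d.2.1⟩ : M)) fun a b hab => ?_
  have h1 := QuotientGroup.eq.mp hab
  rw [mem_subgroupOf] at h1
  simp only [Subgroup.coe_mul, Subgroup.coe_inv] at h1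
  exact Subtype.ext (inv_mul_eq_one.mp (h.D_inf_H hu huM (mul_mem (inv_mem a.2) b.2) h1))

lemma inverts {u : G} (hu : orderOf u = 2) (huM : u ∉ M) :
    (∀ d ∈ Dsub T u, u * d * u⁻¹ = d⁻¹) ∧ Nat.card (Dsub T u) = Nat.card (InvM T) := by
  have hf := swap_eq h.se u huM
  let f : SwapInv M u → Dsub T u := fun j => ⟨u * j.1, (swap_elem hu j.2.1 j.2.2).1⟩
  have hinj : Function.Injective f := fun a b hab => Subtype.ext (mul_left_cancel (congrArg Subtype.val hab))
  have hcard : Nat.card (Dsub T u) = Nat.card (InvM T) :=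
    le_antisymm (h.card_D_le hu huM) (hf ▸ Nat.card_le_card_of_injective f hinj)
  refine ⟨fun d hd => ?_, hcard⟩
  obtain ⟨⟨j, hjo, hjc⟩, hj⟩ :=
    ((Nat.bijective_iff_injective_and_card f).mpr ⟨hinj, hf.trans hcard.symm⟩).2 ⟨d, hd⟩
  have e : u * j = d := congrArg Subtype.val hj
  rw [← e]
  exact conj_prod hu hjo

/-- Nontrivial elements of `Dsub` act freely on `H`. -/
lemma eq_one_of_commute {u : G} (hu : orderOf u = 2) (huM : u ∉ M) {d a : G} (hd : d ∈ Dsub T u)
    (ha : a ∈ H) (ha1 : a ≠ 1) (hc : Commute d a) : d = 1 :=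
  h.D_inf_H hu huM hd (h.cent_le ha ha1 (mem_centralizer_singleton_iff.mpr hc.eq))

lemma exists_swap {g : G} (hg : g ∉ M) :
    ∃ i : G, orderOf i = 2 ∧ i ∉ M ∧ (QuotientGroup.mk i : G ⧸ M) = QuotientGroup.mk g := by
  have hf := swap_eq h.se g hg
  have := h.two_le_inv
  obtain ⟨⟨i, hi, hie⟩⟩ :=
    (Nat.card_pos_iff.mp (hf ▸ (by omega : 0 < Nat.card (InvM T)))).1
  refine ⟨i, hi, fun hm => hg ?_, (QuotientGroup.eq.mpr hie).symm⟩
  rw [← inv_mem_iff]
  exact (Subgroup.mul_mem_cancel_right _ hm).mp hie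

lemma smul_eq_iff {g v : G} :
    g • (QuotientGroup.mk v : G ⧸ M) = QuotientGroup.mk v ↔ v⁻¹ * g * v ∈ M := by
  rw [MulAction.Quotient.smul_mk, smul_eq_mul, QuotientGroup.eq, ← (M).inv_mem_iff]
  simp [mul_assoc]

lemma complement_card {u : G} (hu : orderOf u = 2) (huM : u ∉ M) :
    Nat.card ((Dsub T u).subgroupOf M) = ((H).subgroupOf M).index := by
  rw [Nat.card_congr (subgroupOfEquivOfLe inf_le_left).toEquiv, (h.inverts hu huM).2]
  have h1 := ((H).subgroupOf M).card_mul_index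
  rw [Nat.card_congr (subgroupOfEquivOfLe h.H_le_M).toEquiv, h.card_M] at h1
  exact (Nat.eq_of_mul_eq_mul_left Nat.card_pos h1).symm

lemma cop : (Nat.card ((H).subgroupOf M)).Coprime ((H).subgroupOf M).index := by
  rw [Nat.card_congr (subgroupOfEquivOfLe h.H_le_M).toEquiv]
  exact (coprime_index h.ti.isCN h.isMaxNil).coprime_dvd_right (relIndex_dvd_index_of_le h.H_le_M)

lemma normalizer_D {u : G} (hu : orderOf u = 2) (huM : u ∉ M) {n : G} (hnM : n ∈ M)
    (hn : ∀ d ∈ Dsub T u, n * d * n⁻¹ ∈ Dsub T u) : n ∈ Dsub T u := by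
  set D := Dsub T u with hD
  have hcp := (Cfsg.Agent.Lib.Coprime.isCompl_card_iff h.cop).mpr (h.complement_card hu huM)
  haveI : ((H).subgroupOf M).Normal := ⟨fun a ha g => mem_subgroupOf.mpr (h.conj_H g.2 (mem_subgroupOf.mp ha))⟩
  have hsup : (⟨n, hnM⟩ : M) ∈ (Dsub T u).subgroupOf M ⊔ (H).subgroupOf M := by
    rw [sup_comm, hcp.sup_eq_top]; exact mem_top _
  rw [← SetLike.mem_coe, mul_normal] at hsup
  obtain ⟨⟨d₁, hd₁M⟩, hd₁, ⟨a, haM⟩, ha, he⟩ := hsup
  rw [SetLike.mem_coe, mem_subgroupOf] at hd₁ ha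
  have he' : d₁ * a = n := congrArg Subtype.val he
  by_cases ha1 : a = 1
  · rw [← he', ha1, mul_one]; exact hd₁
  exfalso
  have h2 := h.two_le_inv
  have hcard : Nat.card D = Nat.card (InvM T) := (h.inverts hu huM).2
  have : Nontrivial D := Finite.one_lt_card_iff_nontrivial.mp (by omega)
  obtain ⟨⟨d, hd⟩, hd1⟩ := exists_ne (1 : D)
  have h1 : a * d * a⁻¹ ∈ D := by
    have h2 := D.mul_mem (D.mul_mem (D.inv_mem hd₁) (hn d hd)) hd₁
    convert h2 using 1
    rw [← he']; group
  have h3 : a * d * a⁻¹ * d⁻¹ = 1 := by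
    refine h.D_inf_H hu huM (D.mul_mem h1 (D.inv_mem hd)) ?_
    rw [show a * d * a⁻¹ * d⁻¹ = a * (d * a⁻¹ * d⁻¹) by group]
    exact mul_mem ha (h.conj_H hd.1 (inv_mem ha))
  exact hd1 (Subtype.ext (h.eq_one_of_commute hu huM hd ha ha1
    (mul_inv_eq_iff_eq_mul.mp (mul_inv_eq_one.mp h3)).symm))

lemma fixed_iff {u : G} (hu : orderOf u = 2) (huM : u ∉ M) (g : G) :
    (∀ d ∈ Dsub T u, d • (QuotientGroup.mk g : G ⧸ M) = QuotientGroup.mk g) ↔
      (QuotientGroup.mk g : G ⧸ M) = QuotientGroup.mk 1 ∨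
        (QuotientGroup.mk g : G ⧸ M) = QuotientGroup.mk u := by
  set D := Dsub T u with hD
  constructor
  · intro hfix
    by_contra hne
    push Not at hne
    obtain ⟨hne1, hne2⟩ := hne
    have hgM : g ∉ M := fun hm => hne1 (QuotientGroup.eq.mpr (by simpa using hm))
    obtain ⟨i, hi, hiM, hie⟩ := h.exists_swap hgM
    have hDi : ∀ d ∈ D, i⁻¹ * d * i ∈ M := by
      intro d hd
      have := hfix d hd
      rw [← hie, h.smul_eq_iff] at this
      exact this
    have hcard : Nat.card D = Nat.card (InvM T) := (h.inverts hu huM).2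
    have e1 : D = Dsub T i :=
      eq_of_le_of_card_ge (fun d hd => ⟨hd.1, mem_map_conj.mpr (hDi d hd)⟩)
        (by rw [(h.inverts hi hiM).2, hcard])
    have hiu : i⁻¹ * u ∉ M := fun hm => hne2 (hie ▸ QuotientGroup.eq.mpr hm)
    obtain ⟨k, hk, hkM, hke⟩ := h.exists_swap hiu
    set j := i * k * i⁻¹ with hj
    have hj_inv : ∀ d ∈ D, j * d * j⁻¹ = d⁻¹ := by
      intro d hd
      have hm : i⁻¹ * d * i ∈ Dsub T k := by
        refine ⟨hDi d hd, mem_map_conj.mpr ?_⟩
        have h1 : u⁻¹ * d * u ∈ M := mem_map_conj.mp hd.2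
        have h2 : k⁻¹ * (i⁻¹ * u) ∈ M := QuotientGroup.eq.mp hke
        have h3 := (M).mul_mem ((M).mul_mem h2 h1) ((M).inv_mem h2)
        convert h3 using 1
        group
      have h3 := (h.inverts hk hkM).1 _ hm
      rw [hj]
      calc i * k * i⁻¹ * d * (i * k * i⁻¹)⁻¹ = i * (k * (i⁻¹ * d * i) * k⁻¹) * i⁻¹ := by group
        _ = d⁻¹ := by rw [h3]; group
    have hu_inv := (h.inverts hu huM).1
    have hi_inv : ∀ d ∈ D, i * d * i⁻¹ = d⁻¹ := fun d hd => (h.inverts hi hiM).1 d (e1 ▸ hd)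
    set c := u * (j * i) with hc
    have hcM : c ∈ M := by
      have h2 : k⁻¹ * (i⁻¹ * u) ∈ M := QuotientGroup.eq.mp hke
      rw [inv_self hk, inv_self hi] at h2
      have h3 := (M).inv_mem h2
      rw [mul_inv_rev, mul_inv_rev, inv_self hk, inv_self hi, inv_self hu] at h3
      convert h3 using 1
      rw [hc, hj]; group
    have hc_inv : ∀ d ∈ D, c * d * c⁻¹ = d⁻¹ := by
      intro d hd
      calc c * d * c⁻¹ = u * (j * (i * d * i⁻¹) * j⁻¹) * u⁻¹ := by rw [hc]; group
        _ = u * d * u⁻¹ := by rw [hi_inv d hd, ← conj_inv, hj_inv d hd, inv_inv]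
        _ = d⁻¹ := hu_inv d hd
    have hcD : c ∈ D := h.normalizer_D hu huM hcM fun d hd => by
      rw [hc_inv d hd]; exact D.inv_mem hd
    have hcomm : ∀ d ∈ D, d * d = 1 := by
      intro d hd
      have h1 := hu_inv d hd
      have h2 := hu_inv c hcD
      have h3 := hu_inv (c * d) (D.mul_mem hcD hd)
      have hcomm' : c * d = d * c := by
        have h4 : u * (c * d) * u⁻¹ = c⁻¹ * d⁻¹ := by
          rw [← h1, ← h2]; group
        rw [h3] at h4
        have h5 := congrArg Inv.inv h4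
        simpa [mul_inv_rev] using h5
      have h6 := hc_inv d hd
      rw [hcomm', mul_inv_cancel_right] at h6
      exact mul_eq_one_iff_eq_inv.mpr h6
    have h2' := h.two_le_inv
    have : Nontrivial D := Finite.one_lt_card_iff_nontrivial.mp (by omega)
    obtain ⟨⟨d, hd⟩, hd1⟩ := exists_ne (1 : D)
    refine hd1 (Subtype.ext ?_)
    exact eq_one_of_mul_self_of_odd
      ((h.se.2.2 u huM).of_dvd_nat (D.orderOf_dvd_natCard hd)) (hcomm d hd)
  · rintro (hg | hg) d hd
    · rw [hg, h.smul_eq_iff]; simpa using hd.1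
    · rw [hg, h.smul_eq_iff]; exact mem_map_conj.mp hd.2

lemma conj_swap {u i : G} (hu : orderOf u = 2) (huM : u ∉ M) (hi : orderOf i = 2) (hiM : i ∉ M) :
    ∃ a ∈ H, a • (QuotientGroup.mk u : G ⧸ M) = QuotientGroup.mk i := by
  haveI : ((H).subgroupOf M).Normal := ⟨fun a ha g => mem_subgroupOf.mpr (h.conj_H g.2 (mem_subgroupOf.mp ha))⟩
  have hsol : Group.IsSolvable ((H).subgroupOf M) := by
    haveI := h.hnil
    haveI : Group.IsNilpotent ((H).subgroupOf M) :=
      (Group.isNilpotent_congr (subgroupOfEquivOfLe h.H_le_M)).mpr inferInstance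
    infer_instance
  obtain ⟨a, haH, ha⟩ := Cfsg.Agent.Lib.Coprime.exists_mem_conj_eq _ h.cop (Or.inl hsol)
    (h.complement_card hu huM) (h.complement_card hi hiM)
  refine ⟨(a : G), mem_subgroupOf.mp haH, ?_⟩
  have hfix : ∀ d ∈ Dsub T u,
      d • (QuotientGroup.mk ((a : G)⁻¹ * i) : G ⧸ M) = QuotientGroup.mk ((a : G)⁻¹ * i) := by
    intro d hd
    rw [h.smul_eq_iff]
    have h1 : MulAut.conj a • (⟨d, hd.1⟩ : M) ∈ (Dsub T i).subgroupOf M := by
      rw [← ha]
      exact smul_mem_pointwise_smul _ _ _ (mem_subgroupOf.mpr hd)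
    rw [mem_subgroupOf] at h1
    have h2 := mem_map_conj.mp h1.2
    simp only [MulAut.smul_def, MulAut.conj_apply, Subgroup.coe_mul, Subgroup.coe_inv] at h2
    convert h2 using 1
    group
  rcases (h.fixed_iff hu huM _).mp hfix with hc | hc
  · exfalso
    apply hiM
    have := QuotientGroup.eq.mp hc.symm
    rw [inv_one, one_mul] at this
    have h2 := (M).mul_mem a.2 this
    rwa [mul_inv_cancel_left] at h2
  · rw [MulAction.Quotient.smul_mk, smul_eq_mul, QuotientGroup.eq]
    have := QuotientGroup.eq.mp hc.symm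
    convert this using 1
    group

lemma semiregular {a g : G} (ha : a ∈ H) (hg : g ∉ M)
    (hf : a • (QuotientGroup.mk g : G ⧸ M) = QuotientGroup.mk g) : a = 1 := by
  obtain ⟨i, hi, hiM, hie⟩ := h.exists_swap hg
  refine h.D_inf_H hi hiM ⟨h.H_le_M ha, mem_map_conj.mpr ?_⟩ ha
  rw [← hie, h.smul_eq_iff] at hf
  exact hf

lemma regular (x y : G ⧸ M) (hx : x ≠ QuotientGroup.mk 1) (hy : y ≠ QuotientGroup.mk 1) :
    ∃! a : H, (a : G) • x = y := by
  have hrep : ∀ w : G ⧸ M, w ≠ QuotientGroup.mk 1 →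
      ∃ i : G, orderOf i = 2 ∧ i ∉ M ∧ QuotientGroup.mk i = w := by
    intro w hw
    induction w using QuotientGroup.induction_on with
    | _ g => exact h.exists_swap fun hm => hw (QuotientGroup.eq.mpr (by simpa using hm))
  obtain ⟨u, hu, huM, rfl⟩ := hrep x hx
  obtain ⟨i, hi, hiM, rfl⟩ := hrep y hy
  obtain ⟨a, ha, hae⟩ := h.conj_swap hu huM hi hiM
  refine ⟨⟨a, ha⟩, hae, ?_⟩
  rintro ⟨b, hb⟩ hbe
  have := h.semiregular ((H).mul_mem ((H).inv_mem ha) hb) huM (by
    rw [mul_smul, hbe, ← hae, inv_smul_smul])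
  exact Subtype.ext (inv_mul_eq_one.mp this).symm

end Fr

end Cfsg.Agent.Lib.TICent
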